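import Groth.Agent.H70.PdFibre.KerFP
import Groth.Agent.H49.SectionsExact
import Groth.Agent.H12.QCohAbelian
import Groth.Agent.H44.FPSections
import Groth.Agent.H71.QCoh.FPCriterion
import Groth.Agent.H71.QCoh.FlatOver

/-!
# Kernel of an epimorphism onto a flat finitely presented module is finitely presented (helper70)
-/

set_option autoImplicit false
set_option linter.style.haveILetI false

open CategoryTheory Limits AlgebraicGeometry TopologicalSpace Opposite

namespace Groth.Agent.H70.KerFPGeo

universe u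

variable {X Y : Scheme.{u}} (f : X ⟶ Y)

theorem finitePresentation_sections_kernel (Hd : Groth.Agent.H47.IntModel.Descent4848.{u})
    [LocallyOfFinitePresentation f]
    (G H : X.Modules) [G.IsQuasicoherent] [H.IsQuasicoherent]
    [SheafOfModules.IsFinitePresentation (R := X.ringCatSheaf) G]
    [SheafOfModules.IsFinitePresentation (R := X.ringCatSheaf) H]
    (hflat : FlatMod.IsFlatOver f H) (p : G ⟶ H) [Epi p]
    {U : X.Opens} {V : Y.Opens} (hU : IsAffineOpen U) (hV : IsAffineOpen V) (e : U ≤ f ⁻¹ᵁ V) :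
    Module.FinitePresentation Γ(X, U) Γ(kernel p, U) := by
  haveI := Groth.Agent.H12.QCohAbelian.isQuasicoherent_kernel p
  let E : ShortComplex X.Modules := ShortComplex.mk (kernel.ι p) p (kernel.condition p)
  have hEx : E.Exact := ShortComplex.exact_of_f_is_kernel E (kernelIsKernel p)
  haveI : Mono E.f := inferInstanceAs (Mono (kernel.ι p))
  haveI : Epi E.g := inferInstanceAs (Epi p)
  have hE : E.ShortExact := ShortComplex.ShortExact.mk' hEx inferInstance inferInstance
  haveI : E.X₁.IsQuasicoherent := inferInstanceAs (kernel p).IsQuasicoherent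
  obtain ⟨hinj, hex, hsurj⟩ := Groth.Agent.H49.SectionsExact.sections_shortExact E hE hU
  -- algebra structures
  letI : Algebra Γ(Y, V) Γ(X, U) := (f.appLE V U e).hom.toAlgebra
  haveI : Algebra.FinitePresentation Γ(Y, V) Γ(X, U) := f.finitePresentation_appLE hV hU e
  letI : Module Γ(Y, V) Γ(H, U) := Module.compHom _ (f.appLE V U e).hom
  haveI : IsScalarTower Γ(Y, V) Γ(X, U) Γ(H, U) :=
    IsScalarTower.of_algebraMap_smul (fun r m => rfl)
  haveI : Module.Flat Γ(Y, V) Γ(H, U) :=
    Groth.Agent.H71.QCoh.flat_sections_base_of_isFlatOverAt f H hU hV e (fun x _ => hflat x)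
  haveI : Module.FinitePresentation Γ(X, U) Γ(G, U) :=
    Groth.Agent.H44.finitePresentation_sections_of_isFinitePresentation G hU
  haveI : Module.FinitePresentation Γ(X, U) Γ(H, U) :=
    Groth.Agent.H44.finitePresentation_sections_of_isFinitePresentation H hU
  let φ : Γ(G, U) →ₗ[Γ(X, U)] Γ(H, U) := (p.val.app (op U)).hom
  have hker := Groth.Agent.H70.PdFibre.finitePresentation_ker_of_flat Hd Γ(Y, V) Γ(X, U)
    Γ(G, U) Γ(H, U) φ hsurj
  let ι : Γ(kernel p, U) →ₗ[Γ(X, U)] Γ(G, U) := ((kernel.ι p).val.app (op U)).hom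
  have hr : LinearMap.range ι = LinearMap.ker φ := (LinearMap.exact_iff.mp hex).symm
  let eq : Γ(kernel p, U) ≃ₗ[Γ(X, U)] LinearMap.ker φ :=
    (LinearEquiv.ofInjective ι hinj).trans (LinearEquiv.ofEq _ _ hr)
  exact Module.FinitePresentation.of_equiv eq.symm

theorem isFinitePresentation_kernel (Hd : Groth.Agent.H47.IntModel.Descent4848.{u})
    [LocallyOfFinitePresentation f]
    (G H : X.Modules) [G.IsQuasicoherent] [H.IsQuasicoherent]
    [SheafOfModules.IsFinitePresentation (R := X.ringCatSheaf) G]
    [SheafOfModules.IsFinitePresentation (R := X.ringCatSheaf) H]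
    (hflat : FlatMod.IsFlatOver f H) (p : G ⟶ H) [Epi p] :
    SheafOfModules.IsFinitePresentation (R := X.ringCatSheaf) (kernel p) := by
  haveI := Groth.Agent.H12.QCohAbelian.isQuasicoherent_kernel p
  choose U V hU hV hxU hUV using Groth.Agent.H71.QCoh.exists_affine_pair f
  refine Groth.Agent.H71.QCoh.isFinitePresentation_of_finitePresentation_sections (kernel p) U
    ?_ hU (fun x => finitePresentation_sections_kernel f Hd G H hflat p (hU x) (hV x) (hUV x))
  refine IsOpenCover.mk (eq_top_iff.mpr ?_)
  intro x _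
  exact TopologicalSpace.Opens.mem_iSup.mpr ⟨x, hxU x⟩

end Groth.Agent.H70.KerFPGeo
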